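import Cfsg.Agent.H722.HT.Psl
import Cfsg.Agent.H688.HT.Three
import Cfsg.Agent.H892.HT.Disp

/-!
# S4933, part (O): `PSL_n(q)`, all cases with abelian Sylow subgroups (helper722)
-/

set_option autoImplicit false
set_option linter.unusedSectionVars false

open Subgroup Matrix

namespace Cfsg.Agent.H722.HT

open Cfsg Cfsg.Agent.H316.HT Cfsg.Agent.H37.HT

section mono

variable {F : Type} [Field F] {n : ℕ}

/-- diagonal matrices of exponent `N` -/
def Dk (F : Type) [Field F] (n N : ℕ) (hN : 0 < N) : Subgroup (Matrix.SpecialLinearGroup (Fin n) F) where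
  carrier := {A | ∃ d : Fin n → F, (A : Matrix (Fin n) (Fin n) F) = Matrix.diagonal d ∧ ∀ i, d i ^ N = 1}
  mul_mem' := by
    rintro A B ⟨d, hd, hd'⟩ ⟨e, he, he'⟩
    refine ⟨fun i => d i * e i, ?_, fun i => by rw [mul_pow, hd', he', mul_one]⟩
    rw [Matrix.SpecialLinearGroup.coe_mul, hd, he, Matrix.diagonal_mul_diagonal]
  one_mem' := ⟨fun _ => 1, by rw [Matrix.SpecialLinearGroup.coe_one, Matrix.diagonal_one], fun _ => one_pow _⟩
  inv_mem' := by
    rintro A ⟨d, hd, hd'⟩
    have h1 : A ^ N = 1 := by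
      apply Subtype.ext
      rw [Matrix.SpecialLinearGroup.coe_pow, hd, Matrix.diagonal_pow, Matrix.SpecialLinearGroup.coe_one,
        ← Matrix.diagonal_one]
      congr 1
      funext i
      exact hd' i
    have h2 : A⁻¹ = A ^ (N - 1) := by
      rw [inv_eq_iff_mul_eq_one, ← pow_succ', Nat.sub_add_cancel hN, h1]
    refine ⟨fun i => d i ^ (N - 1), ?_, fun i => by rw [← pow_mul, mul_comm, pow_mul, hd', one_pow]⟩
    rw [h2, Matrix.SpecialLinearGroup.coe_pow, hd, Matrix.diagonal_pow]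
    rfl

theorem Dk_pow {N : ℕ} (hN : 0 < N) {A : Matrix.SpecialLinearGroup (Fin n) F} (hA : A ∈ Dk F n N hN) : A ^ N = 1 := by
  obtain ⟨d, hd, hd'⟩ := hA
  apply Subtype.ext
  rw [Matrix.SpecialLinearGroup.coe_pow, hd, Matrix.diagonal_pow, Matrix.SpecialLinearGroup.coe_one,
    ← Matrix.diagonal_one]
  congr 1
  funext i
  exact hd' i

theorem perm_diag (c : Equiv.Perm (Fin n)) (d : Fin n → F) :
    c.permMatrix F * Matrix.diagonal d = Matrix.diagonal (d ∘ c) * c.permMatrix F := by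
  have h0 : ∀ i j, (c.permMatrix F) i j = if c i = j then 1 else 0 := by
    intro i j
    show (PEquiv.toMatrix c.toPEquiv : Matrix (Fin n) (Fin n) F) i j = _
    rw [PEquiv.toMatrix_apply]
    by_cases h : c i = j
    · subst h; simp
    · simp [h]
  rw [PEquiv.toMatrix_toPEquiv_mul]
  ext i j
  rw [Matrix.submatrix_apply, Matrix.diagonal_mul, id, Matrix.diagonal_apply, h0]
  by_cases h : c i = j
  · subst h
    simp
  · simp [h]

theorem permMatrix_pow (c : Equiv.Perm (Fin n)) (k : ℕ) : (c.permMatrix F) ^ k = (c ^ k).permMatrix F := by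
  induction k with
  | zero => rw [pow_zero, pow_zero, Matrix.permMatrix_one]
  | succ k ih => rw [pow_succ, ih, ← Matrix.permMatrix_mul, ← pow_succ']

/-- the monomial `p`-subgroup is abelian modulo scalars -/
theorem ratio_eq [Finite F] {p : ℕ} [hp : Fact p.Prime] (hp2 : p ≠ 2) (hab : AbSyl p (Matrix.ProjectiveSpecialLinearGroup (Fin n) F))
    (c : Equiv.Perm (Fin n)) (hc : c ^ p = 1) (d : Fin n → F) {k : ℕ} (hd : ∀ i, d i ^ p ^ k = 1) (hdet : ∏ i, d i = 1)
    (i j : Fin n) : d (c i) * d j = d (c j) * d i := by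
  classical
  have := Fintype.ofFinite F
  have hfin : Finite (Matrix.SpecialLinearGroup (Fin n) F) := inferInstance
  have hpk : 0 < p ^ k := pow_pos hp.out.pos k
  have hsign : Equiv.Perm.sign c = 1 := by
    have h1 : (Equiv.Perm.sign c) ^ p = 1 := by rw [← map_pow, hc, map_one]
    rcases Int.units_eq_one_or (Equiv.Perm.sign c) with h | h
    · exact h
    · rw [h, (hp.out.odd_of_ne_two hp2).neg_one_pow] at h1
      exact absurd h1 (by decide)
  let w : Matrix.SpecialLinearGroup (Fin n) F := ⟨c.permMatrix F, by rw [Matrix.det_permutation, hsign]; simp⟩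
  let D : Matrix.SpecialLinearGroup (Fin n) F := ⟨Matrix.diagonal d, by rw [Matrix.det_diagonal, hdet]⟩
  have hdet' : ∏ i, d (c i) = 1 := by rw [Equiv.prod_comp c d, hdet]
  let D' : Matrix.SpecialLinearGroup (Fin n) F := ⟨Matrix.diagonal (d ∘ c), by rw [Matrix.det_diagonal]; exact hdet'⟩
  have hwp : w ^ p = 1 := by
    apply Subtype.ext
    rw [Matrix.SpecialLinearGroup.coe_pow]
    show (c.permMatrix F) ^ p = 1
    rw [permMatrix_pow, hc, Matrix.permMatrix_one]
  have hconj : w * D = D' * w := by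
    apply Subtype.ext
    exact perm_diag c d
  let H := Subgroup.zpowers w ⊔ Dk F n (p ^ k) hpk
  have hH : IsPGroup p H := by
    apply IsPGroup.to_sup_of_normal_right'
    · refine IsPGroup.of_card (n := (Nat.card (Subgroup.zpowers w)).factorization p) ?_
      obtain ⟨a, ha, hac⟩ := (Nat.dvd_prime_pow hp.out).1 (show Nat.card (Subgroup.zpowers w) ∣ p ^ 1 by
        rw [Nat.card_zpowers, pow_one]; exact orderOf_dvd_of_pow_eq_one hwp)
      rw [hac, hp.out.factorization_pow, Finsupp.single_eq_same]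
    · intro A
      refine ⟨k, Subtype.ext ?_⟩
      rw [Subgroup.coe_pow, Dk_pow hpk A.2, Subgroup.coe_one]
    · rw [Subgroup.zpowers_le]
      apply Subgroup.mem_normalizer_fintype
      rintro A ⟨e, he, he'⟩
      refine ⟨e ∘ c, ?_, fun i => he' _⟩
      let A' : Matrix.SpecialLinearGroup (Fin n) F := ⟨Matrix.diagonal (e ∘ c), by
          rw [Matrix.det_diagonal]
          have h2 := A.2
          rw [he, Matrix.det_diagonal] at h2
          exact (Equiv.prod_comp c e).trans h2⟩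
      have h1 : w * A = A' * w := by
        apply Subtype.ext
        show c.permMatrix F * (A : Matrix (Fin n) (Fin n) F) = Matrix.diagonal (e ∘ c) * c.permMatrix F
        rw [he]
        exact perm_diag c e
      rw [h1, mul_inv_cancel_right]
  let π := QuotientGroup.mk' (Subgroup.center (Matrix.SpecialLinearGroup (Fin n) F))
  have hH' : IsPGroup p (H.map π) := hH.map π
  obtain ⟨P, hP⟩ := hH'.exists_le_sylow
  have hw : π w ∈ (P : Subgroup _) := hP (Subgroup.mem_map_of_mem π (Subgroup.mem_sup_left (Subgroup.mem_zpowers w)))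
  have hD : π D ∈ (P : Subgroup _) := hP (Subgroup.mem_map_of_mem π (Subgroup.mem_sup_right ⟨d, rfl, hd⟩))
  have hcomm := hab P _ hw _ hD
  rw [← map_mul, hconj, ← map_mul] at hcomm
  rw [map_mul, map_mul] at hcomm
  have h1 : D'⁻¹ * D ∈ Subgroup.center (Matrix.SpecialLinearGroup (Fin n) F) :=
    QuotientGroup.eq.1 (mul_right_cancel hcomm)
  obtain ⟨r, -, hr⟩ := Matrix.SpecialLinearGroup.mem_center_iff.1 h1
  have h2 : (D : Matrix (Fin n) (Fin n) F) = (D' : Matrix (Fin n) (Fin n) F) * Matrix.scalar (Fin n) r := by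
    rw [hr, ← Matrix.SpecialLinearGroup.coe_mul, mul_inv_cancel_left]
  have h3 : ∀ i, d i = d (c i) * r := by
    intro i
    have h4 := congrFun (congrFun h2 i) i
    have h5 : (D : Matrix (Fin n) (Fin n) F) i i = d i := Matrix.diagonal_apply_eq d i
    have h6 : ((D' : Matrix (Fin n) (Fin n) F) * Matrix.scalar (Fin n) r) i i = d (c i) * r := by
      show (Matrix.diagonal (d ∘ c) * Matrix.diagonal (fun _ => r) : Matrix (Fin n) (Fin n) F) i i = _
      rw [Matrix.diagonal_mul_diagonal, Matrix.diagonal_apply_eq]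
      rfl
    rw [← h5, h4, h6]
  rw [h3 i, h3 j]
  ring

theorem cycle_pow {p : ℕ} [hp : Fact p.Prime] (hn : p ≤ n) :
    (Fin.cycleRange (⟨p - 1, by have := hp.out.pos; omega⟩ : Fin n)) ^ p = 1 := by
  have hp3 := hp.out.two_le
  have : NeZero n := ⟨by omega⟩
  have h0 : (⟨p - 1, by omega⟩ : Fin n) ≠ 0 := by
    intro h
    have := congrArg Fin.val h
    simp at this
    omega
  have h1 := Equiv.Perm.lcm_cycleType (Fin.cycleRange (⟨p - 1, by omega⟩ : Fin n))
  rw [Fin.cycleType_cycleRange h0, Multiset.lcm_singleton] at h1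
  have h2 : orderOf (Fin.cycleRange (⟨p - 1, by omega⟩ : Fin n)) = p := by
    rw [← h1]
    simp
    omega
  calc (Fin.cycleRange (⟨p - 1, by omega⟩ : Fin n)) ^ p =
      (Fin.cycleRange (⟨p - 1, by omega⟩ : Fin n)) ^ orderOf (Fin.cycleRange (⟨p - 1, by omega⟩ : Fin n)) := by rw [h2]
    _ = 1 := pow_orderOf_eq_one _

/-- the vector `(a, a⁻¹, 1, …)` -/
theorem prod_two [NeZero n] (hn : 2 ≤ n) {a : F} (ha : a ≠ 0) :
    ∏ i : Fin n, (if (i : ℕ) = 0 then a else if (i : ℕ) = 1 then a⁻¹ else 1) = 1 := by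
  rw [Fin.prod_univ_eq_prod_range (fun i => if i = 0 then a else if i = 1 then a⁻¹ else 1) n,
    ← Finset.prod_subset (Finset.range_subset_range.2 hn)]
  · rw [Finset.prod_range_succ, Finset.prod_range_succ, Finset.prod_range_zero]
    simp [ha]
  · intro x _ hx
    rw [Finset.mem_range] at hx
    rw [if_neg (by omega), if_neg (by omega)]

/-- **abelian Sylow `p`-subgroups of `PSL_n(q)`, `p ∣ n`, `p ∣ q - 1`** -/
theorem three_of_ab [Fintype F] {p : ℕ} [hp : Fact p.Prime] (hp2 : p ≠ 2) (hn : 2 ≤ n) (hpn : p ∣ n)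
    (hpq : p ∣ Fintype.card F - 1) (hab : AbSyl p (Matrix.ProjectiveSpecialLinearGroup (Fin n) F)) :
    n = 3 ∧ p = 3 ∧ ¬ 9 ∣ Fintype.card F - 1 := by
  classical
  have hpn' : p ≤ n := Nat.le_of_dvd (by omega) hpn
  have hp3 : 3 ≤ p := by have := hp.out.two_le; omega
  have : NeZero n := ⟨by omega⟩
  have key : ∀ (a : F) (k : ℕ), a ^ p ^ k = 1 → a ^ 3 = 1 ∧ (¬ (p = 3 ∧ n = 3) → a = 1) := by
    intro a k ha
    have ha0 : a ≠ 0 := by
      rintro rfl
      rw [zero_pow (pow_ne_zero _ hp.out.ne_zero)] at ha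
      exact zero_ne_one ha
    set c := Fin.cycleRange (⟨p - 1, by omega⟩ : Fin n) with hc
    set d : Fin n → F := fun i => if (i : ℕ) = 0 then a else if (i : ℕ) = 1 then a⁻¹ else 1 with hd
    have hr := ratio_eq hp2 hab c (cycle_pow hpn') d (k := k) (fun i => by
      rw [hd]
      simp only
      split_ifs
      · exact ha
      · rw [inv_pow, ha, inv_one]
      · exact one_pow _) (prod_two hn ha0)
    have hc0 : ((c ⟨0, by omega⟩ : Fin n) : ℕ) = 1 := by
      rw [hc, Fin.coe_cycleRange_of_lt (Fin.mk_lt_mk.2 (by omega))]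
    have hc1 : ((c ⟨1, by omega⟩ : Fin n) : ℕ) = 2 := by
      rw [hc, Fin.coe_cycleRange_of_lt (Fin.mk_lt_mk.2 (by omega))]
    have h01 := hr ⟨0, by omega⟩ ⟨1, by omega⟩
    simp only [hd, hc0, hc1] at h01
    norm_num at h01
    refine ⟨?_, fun hne => ?_⟩
    · calc a ^ 3 = a * a * a := by ring
        _ = a * a * (a⁻¹ * a⁻¹) := by rw [h01]
        _ = 1 := by field_simp
    · obtain ⟨j, hj1, hj2⟩ : ∃ j : Fin n, 2 ≤ (j : ℕ) ∧ 2 ≤ ((c j : Fin n) : ℕ) := by
        rcases Nat.lt_or_ge 3 p with h4 | h4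
        · refine ⟨⟨2, by omega⟩, le_rfl, ?_⟩
          rw [hc, Fin.coe_cycleRange_of_lt (Fin.mk_lt_mk.2 (by omega))]
          show 2 ≤ 2 + 1
          omega
        · have hp33 : p = 3 := by omega
          have hn3 : 3 < n := by
            rcases Nat.lt_or_ge 3 n with h5 | h5
            · exact h5
            · exact absurd ⟨hp33, by omega⟩ hne
          refine ⟨⟨3, hn3⟩, by show 2 ≤ 3; omega, ?_⟩
          rw [hc, Fin.cycleRange_of_gt (Fin.mk_lt_mk.2 (by omega))]
          show 2 ≤ 3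
          omega
      have h1j := hr ⟨1, by omega⟩ j
      have e1 : d j = 1 := by rw [hd]; simp only; rw [if_neg (by omega), if_neg (by omega)]
      have e2 : d (c j) = 1 := by rw [hd]; simp only; rw [if_neg (by omega), if_neg (by omega)]
      rw [e1, e2] at h1j
      simp only [hd, hc1] at h1j
      norm_num at h1j
      exact h1j
  have hcyc : ∀ N : ℕ, N ∣ Fintype.card F - 1 → ∃ a : F, a ^ N = 1 ∧ ∀ k, a ^ k = 1 → N ∣ k := by
    intro N hN
    obtain ⟨g, hg⟩ := IsCyclic.exists_ofOrder_eq_natCard (α := Fˣ)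
    rw [Nat.card_units, Nat.card_eq_fintype_card] at hg
    obtain ⟨t, ht⟩ := hN
    have hpos : 0 < Fintype.card F - 1 := by
      have := Fintype.one_lt_card (α := F)
      omega
    have ht0 : t ≠ 0 := by rintro rfl; omega
    have hN0 : N ≠ 0 := by rintro rfl; omega
    have ho : orderOf (g ^ t) = N := by
      rw [orderOf_pow_of_dvd ht0 (by rw [hg, ht]; exact Dvd.intro_left N rfl), hg, ht,
        Nat.mul_div_cancel _ (Nat.pos_of_ne_zero ht0)]
    refine ⟨((g ^ t : Fˣ) : F), ?_, fun k hk => ?_⟩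
    · rw [← Units.val_pow_eq_pow_val, ← ho, pow_orderOf_eq_one, Units.val_one]
    · rw [← ho]
      apply orderOf_dvd_of_pow_eq_one
      apply Units.ext
      rw [Units.val_pow_eq_pow_val, hk, Units.val_one]
  obtain ⟨a, ha, hak⟩ := hcyc p hpq
  have ha1 := key a 1 (by rw [pow_one]; exact ha)
  have hp33 : p = 3 := (Nat.prime_dvd_prime_iff_eq hp.out Nat.prime_three).1 (hak 3 ha1.1)
  have hn3 : n = 3 := by
    by_contra hn3
    have h1 := ha1.2 (fun h => hn3 h.2)
    have h2 := hak 1 (by rw [h1, one_pow])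
    exact hp.out.one_lt.ne' (Nat.dvd_one.1 h2)
  refine ⟨hn3, hp33, fun h9 => ?_⟩
  obtain ⟨b, hb, hbk⟩ := hcyc 9 h9
  have hb1 := key b 2 (by rw [hp33]; exact hb)
  have := hbk 3 hb1.1
  omega

end mono

/-- **O.cl.psl** (field `OAb.psl`) -/
theorem oab_psl (p : ℕ) [hp : Fact p.Prime] (F : Type) [Field F] [Fintype F] (n : ℕ)
    [hs : IsSimpleGroup (ProjectiveSpecialLinearGroup (Fin n) F)] (hp2 : p ≠ 2) (hn : 2 ≤ n) (hpq : ¬ p ∣ Fintype.card F)
    (hab : Cfsg.Agent.H892.HT.Ab p (ProjectiveSpecialLinearGroup (Fin n) F))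
    (hd : p ∣ Nat.card (ProjectiveSpecialLinearGroup (Fin n) F)) :
    Row p (ProjectiveSpecialLinearGroup (Fin n) F) := by
  have hab' : AbSyl p (ProjectiveSpecialLinearGroup (Fin n) F) := fun P x hx y hy => by
    have h1 := (hab P).is_comm.comm ⟨x, hx⟩ ⟨y, hy⟩
    exact congrArg Subtype.val h1
  by_cases hg : p ∣ n ∧ p ∣ Fintype.card F - 1
  · obtain ⟨h1, h2, h3⟩ := three_of_ab hp2 hn hg.1 hg.2 hab'
    have h4 := hg.2
    subst h1
    subst h2
    exact Cfsg.Agent.H688.HT.row_psl3 F h4 h3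
  · exact row_psl hp2 hn hs hpq hg hd hab'

end Cfsg.Agent.H722.HT
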