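import Cfsg.Agent.H722.HT.Roots
import Cfsg.Agent.H483.HT.Rep
import Cfsg.Agent.H37.HT.Main

/-!
# S4933, part (O): the frame of the classical groups (helper722)

`T → S` a covering with central kernel of order prime to `p`, `ρ` a representation of `T` over the finite field `F`.
-/

set_option autoImplicit false
set_option linter.unusedSectionVars false

open Subgroup Polynomial

namespace Cfsg.Agent.H722.HT

open Cfsg Cfsg.Agent.H316.HT Cfsg.Agent.H37.HT

variable {F : Type} [Field F]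

/-- the eigenvalues over the algebraic closure -/
noncomputable def ev (P : F[X]) : Multiset (AlgebraicClosure F) := (P.map (algebraMap F (AlgebraicClosure F))).roots

variable {S T : Type} [Group S] [Group T]

/-- the eigenvalue data of a representation by matrices -/
theorem exists_ed {p r f : ℕ} [Fact p.Prime] [Fintype F] (hF : Fintype.card F = r ^ f) (hpF : (p : F) ≠ 0)
    {ι : Type} [Fintype ι] [DecidableEq ι] [Finite S] [Finite T] (hab : AbSyl p S) (π : T →* S)
    (hπ : Function.Surjective π) (hk : ∀ z ∈ π.ker, ∀ x : T, z * x = x * z) (hkp : ¬ p ∣ Nat.card π.ker)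
    (ρ : T →* Matrix ι ι F) :
    ∃ E : ED p r f S (AlgebraicClosure F), (∀ t : T, IsP p t → E.E (π t) = ev ((ρ t).charpoly)) ∧
      ∀ x : S, IsP p x → ∃ t : T, IsP p t ∧ π t = x := by
  classical
  have hpK : ((p : ℕ) : AlgebraicClosure F) ≠ 0 := by
    intro h
    apply hpF
    apply (algebraMap F (AlgebraicClosure F)).injective
    rw [map_natCast, map_zero, h]
  let e := Fintype.equivFin ι
  let ρ₁ : T →* Matrix (Fin (Fintype.card ι)) (Fin (Fintype.card ι)) (AlgebraicClosure F) :=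
    { toFun := fun t => Matrix.reindex e e ((ρ t).map (algebraMap F (AlgebraicClosure F)))
      map_one' := by
        rw [map_one, Matrix.map_one _ (map_zero _) (map_one _), Matrix.reindex_apply, Matrix.submatrix_one_equiv]
      map_mul' := fun a b => by
        rw [map_mul, Matrix.map_mul, Matrix.reindex_apply, Matrix.reindex_apply, Matrix.reindex_apply,
          Matrix.submatrix_mul_equiv] }
  have h1 : ∀ t, (ρ₁.toHomUnits t : Matrix (Fin (Fintype.card ι)) (Fin (Fintype.card ι)) (AlgebraicClosure F)).charpoly =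
      ((ρ t).charpoly).map (algebraMap F (AlgebraicClosure F)) := by
    intro t
    have h0 : (ρ₁.toHomUnits t : Matrix (Fin (Fintype.card ι)) (Fin (Fintype.card ι)) (AlgebraicClosure F)) =
        Matrix.reindex e e ((ρ t).map (algebraMap F (AlgebraicClosure F))) := rfl
    rw [h0, Matrix.charpoly_reindex, Matrix.charpoly_map]
  obtain ⟨E, hE1, hE2, hE3, hE4⟩ := Cfsg.Agent.H483.HT.exists_lin hab π hπ hk hkp hpK ρ₁.toHomUnits
  have hE1' : ∀ t : T, IsP p t → E (π t) = ev ((ρ t).charpoly) := by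
    intro t ht
    rw [hE1 t ht, h1]
    rfl
  refine ⟨⟨E, hE3, fun P => ⟨_, hE4 P⟩, fun x hx => ?_⟩, hE1', hE2⟩
  obtain ⟨t, ht, rfl⟩ := hE2 x hx
  rw [hE1' t ht, ← hF]
  exact roots_pow_card _

/-- the eigenvalue data of a representation by linear maps -/
theorem exists_edV {p r f : ℕ} [Fact p.Prime] [Fintype F] (hF : Fintype.card F = r ^ f) (hpF : (p : F) ≠ 0)
    {V : Type} [AddCommGroup V] [Module F V] [FiniteDimensional F V] [Finite S] [Finite T] (hab : AbSyl p S) (π : T →* S)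
    (hπ : Function.Surjective π) (hk : ∀ z ∈ π.ker, ∀ x : T, z * x = x * z) (hkp : ¬ p ∣ Nat.card π.ker)
    (ρ : T →* Module.End F V) :
    ∃ E : ED p r f S (AlgebraicClosure F), (∀ t : T, IsP p t → E.E (π t) = ev (LinearMap.charpoly (ρ t))) ∧
      ∀ x : S, IsP p x → ∃ t : T, IsP p t ∧ π t = x := by
  let b := Module.finBasis F V
  obtain ⟨E, h1, h2⟩ := exists_ed hF hpF hab π hπ hk hkp
    ((LinearMap.toMatrixAlgEquiv b : Module.End F V ≃ₐ[F] _).toRingEquiv.toRingHom.toMonoidHom.comp ρ)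
  refine ⟨E, fun t ht => ?_, h2⟩
  rw [h1 t ht, ← LinearMap.charpoly_toMatrix (ρ t) b]
  rfl

/-- `φ` is covered by semilinear maps: it acts on the characteristic polynomials of the `p`-elements as `x ↦ x ^ r` -/
def Cov (p : ℕ) (π : T →* S) (c : T → F[X]) (σ : F →+* F) (φ : MulAut S) : Prop :=
  ∀ t : T, IsP p t → ∃ t' : T, IsP p t' ∧ π t' = φ (π t) ∧ c t' = (c t).map σ

/-- the element `y` -/
def Elt (p q : ℕ) (c : T → F[X]) : Prop :=
  ∀ (e m : ℕ) (ω : AlgebraicClosure F), 0 < e → orderOf ((q : ℕ) : ZMod p) = e → 1 ≤ m →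
    p ^ (m + 1) ∣ q ^ e - 1 → ¬ p ^ (m + 2) ∣ q ^ e - 1 → IsPrimitiveRoot ω (p ^ (m + 1)) →
    ∃ (t : T) (s : Multiset ℕ), IsP p t ∧ ev (c t) = s.map (fun k => ω ^ k) ∧
      ¬ p ∣ (s.filter fun k => k % p ^ m = 1).card

/-- the frame: `c` the characteristic polynomial -/
theorem row_of_cov {p r f : ℕ} [Fact p.Prime] (hp2 : p ≠ 2) (hr : r.Prime) (hrp : r ≠ p) (hf : 0 < f) [Fintype F]
    (hF : Fintype.card F = r ^ f) [Finite S] (hab : AbSyl p S)
    (hout : (Nat.card (Out S)).factorization p ≤ f.factorization p) (π : T →* S) (c : T → F[X])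
    (E : ED p r f S (AlgebraicClosure F)) (hE : ∀ t : T, IsP p t → E.E (π t) = ev (c t))
    (hsurj : ∀ x : S, IsP p x → ∃ t : T, IsP p t ∧ π t = x) (hy : Elt p (r ^ f) c)
    (φ : MulAut S) (σ : F →+* F) (hσ : ∀ a, σ a = a ^ r) (hφ : Cov p π c σ φ) (hφf : ∃ k : ℕ, ¬ p ∣ k ∧ φ ^ (k * f) ∈ Inn S)
    (hc : ∀ g : MulAut S, ∃ h : MulAut S, g * φ * g⁻¹ = h * φ ∧ Cov p π c (RingHom.id F) h) : Row p S := by
  have hch : CharP F r := by
    obtain ⟨r', hr'⟩ := CharP.exists F
    have h1 : r'.Prime := CharP.char_is_prime F r'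
    have : Fact r'.Prime := ⟨h1⟩
    obtain ⟨f', -, hf'⟩ := FiniteField.card F r'
    have h2 : r ∣ r' ^ (f' : ℕ) := by
      rw [← hf', hF]
      exact dvd_pow_self r hf.ne'
    have h3 := hr.dvd_of_dvd_pow h2
    rw [(Nat.prime_dvd_prime_iff_eq hr h1).1 h3]
    exact hr'
  have : Fact r.Prime := ⟨hr⟩
  have hK : CharP (AlgebraicClosure F) r := charP_of_injective_algebraMap (algebraMap F (AlgebraicClosure F)).injective r
  have hσ' : σ = frobenius F r := by
    ext a
    rw [hσ, frobenius_def]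
  refine row_of_ed hp2 hr hrp hf hab hout E ?_ φ ?_ hφf ?_
  · intro _ e m ω he ho hm h1 h2 hω
    obtain ⟨t, s, ht, hs, hn⟩ := hy e m ω he ho hm h1 h2 hω
    refine ⟨π t, s, 1, ?_, by rw [hE t ht, hs], ?_, Or.inl ?_⟩
    · obtain ⟨k, hk⟩ := ht
      exact ⟨k, by rw [← map_pow, hk, map_one]⟩
    · exact fun h => (Fact.out (p := p.Prime)).one_lt.ne' (Nat.dvd_one.1 h)
    · have h3 : 1 % p ^ m = 1 := Nat.mod_eq_of_lt (Nat.one_lt_pow (by omega) (Fact.out (p := p.Prime)).one_lt)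
      rw [h3]
      exact hn
  · intro x hx
    obtain ⟨t, ht, rfl⟩ := hsurj x hx
    obtain ⟨t', ht', h1, h2⟩ := hφ t ht
    rw [← h1, hE t ht, hE t' ht', h2, hσ']
    exact roots_map_frob _
  · intro g x hx
    obtain ⟨h, h1, h2⟩ := hc g
    have hx2 : IsP p (φ x) := by
      obtain ⟨k, hk⟩ := hx
      exact ⟨k, by rw [← map_pow, hk, map_one]⟩
    have h3 : g (φ (g⁻¹ x)) = h (φ x) := DFunLike.congr_fun h1 x
    rw [h3]
    obtain ⟨t, ht, hxt⟩ := hsurj _ hx2
    obtain ⟨t', ht', h4, h5⟩ := h2 t ht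
    rw [← hxt, ← h4, hE t' ht', hE t ht, h5, Polynomial.map_id]

end Cfsg.Agent.H722.HT
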