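import Mathlib

/-!
# Roots of polynomials over a finite field in an extension (helper722, for S4933)

* `roots_pow_card`, `roots_map_frob` : the roots of a polynomial over `F` and the Frobenius map;
* `roots_minpoly` : the roots of the minimal polynomial of `ω` are `ω ^ q ^ i`, `i < e`;
* `exists_matrix` : a matrix with these eigenvalues.
-/

set_option autoImplicit false
set_option linter.unusedSectionVars false

open Polynomial

namespace Cfsg.Agent.H722.HT

section roots

variable {F : Type} [Field F] [Fintype F] {K : Type} [Field K] [Algebra F K]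

/-- the value at `x ^ q` -/
theorem aeval_pow_card (P : F[X]) (x : K) : aeval (x ^ Fintype.card F) P = (aeval x P) ^ Fintype.card F := by
  rw [← map_pow, ← FiniteField.expand_card, expand_aeval]

theorem aeval_pow_card_pow (P : F[X]) (x : K) (i : ℕ) (h : aeval x P = 0) :
    aeval (x ^ Fintype.card F ^ i) P = 0 := by
  induction i with
  | zero => simpa using h
  | succ i ih => rw [pow_succ, pow_mul, aeval_pow_card, ih, zero_pow Fintype.card_ne_zero]

/-- the roots of a polynomial over `F` are stable under the `q`-th power -/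
theorem roots_pow_card [IsAlgClosed K] (P : F[X]) :
    ((P.map (algebraMap F K)).roots.map fun a => a ^ Fintype.card F) = (P.map (algebraMap F K)).roots := by
  obtain ⟨r, hr⟩ := CharP.exists F
  have hrp : r.Prime := CharP.char_is_prime F r
  have : Fact r.Prime := ⟨hrp⟩
  obtain ⟨f, -, hf⟩ := FiniteField.card F r
  have hK : CharP K r := charP_of_injective_algebraMap (algebraMap F K).injective r
  have h1 : (fun a : K => a ^ Fintype.card F) = iterateFrobenius K r f := by
    funext a
    rw [iterateFrobenius_def, hf]
  rw [h1, ← Polynomial.Splits.roots_map (IsAlgClosed.splits _), Polynomial.map_map]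
  congr 2
  ext a
  rw [RingHom.comp_apply, iterateFrobenius_def, ← hf, ← map_pow, FiniteField.pow_card]

/-- the Frobenius map on polynomials -/
theorem roots_map_frob [IsAlgClosed K] {r : ℕ} [Fact r.Prime] [CharP F r] [CharP K r] (P : F[X]) :
    ((P.map (frobenius F r)).map (algebraMap F K)).roots = (P.map (algebraMap F K)).roots.map fun a => a ^ r := by
  have h1 : (fun a : K => a ^ r) = frobenius K r := by
    funext a
    rw [frobenius_def]
  rw [h1, ← Polynomial.Splits.roots_map (IsAlgClosed.splits _), Polynomial.map_map, Polynomial.map_map]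
  congr 2
  ext a
  simp [frobenius_def]

variable {ω : K} {e : ℕ}

theorem natDegree_minpoly (hω : IsIntegral F ω) (h : ∀ d, ω ^ Fintype.card F ^ d = ω ↔ e ∣ d) :
    (minpoly F ω).natDegree = e := by
  have hirr := minpoly.irreducible hω
  have key : ∀ d, ((minpoly F ω).natDegree ∣ d ↔ e ∣ d) := by
    intro d
    rw [← h d, hirr.natDegree_dvd_iff_dvd_X_pow_card_pow_sub_X, minpoly.dvd_iff, Nat.card_eq_fintype_card, map_sub,
      map_pow, aeval_X, sub_eq_zero]
  exact Nat.dvd_antisymm ((key e).2 dvd_rfl) ((key _).1 dvd_rfl)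

/-- the roots of the minimal polynomial -/
theorem roots_minpoly (hω : IsIntegral F ω) (h : ∀ d, ω ^ Fintype.card F ^ d = ω ↔ e ∣ d) :
    ((minpoly F ω).map (algebraMap F K)).roots = (Multiset.range e).map fun i => ω ^ Fintype.card F ^ i := by
  have hne : (minpoly F ω).map (algebraMap F K) ≠ 0 := by
    rw [Polynomial.map_ne_zero_iff (algebraMap F K).injective]
    exact minpoly.ne_zero hω
  have hdeg : ((minpoly F ω).map (algebraMap F K)).natDegree = e := by
    rw [Polynomial.natDegree_map, natDegree_minpoly hω h]
  have hnd : ((Multiset.range e).map fun i => ω ^ Fintype.card F ^ i).Nodup := by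
    refine Multiset.Nodup.map_on ?_ (Multiset.nodup_range e)
    have key : ∀ i j, i ≤ j → j < e → ω ^ Fintype.card F ^ i = ω ^ Fintype.card F ^ j → i = j := by
      intro i j hij hj hh
      have h2 : (ω ^ Fintype.card F ^ i) ^ Fintype.card F ^ (e - i) = ω := by
        rw [← pow_mul, ← pow_add, show i + (e - i) = e by omega, (h e).2 dvd_rfl]
      have h3 : (ω ^ Fintype.card F ^ j) ^ Fintype.card F ^ (e - i) = ω ^ Fintype.card F ^ (j - i) := by
        rw [← pow_mul, ← pow_add, show j + (e - i) = e + (j - i) by omega, pow_add, pow_mul, (h e).2 dvd_rfl]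
      rw [hh, h3] at h2
      have h4 := (h _).1 h2
      rcases Nat.eq_zero_or_pos (j - i) with h5 | h5
      · omega
      · have := Nat.le_of_dvd h5 h4
        omega
    intro i hi j hj hh
    rw [Multiset.mem_range] at hi hj
    rcases le_total i j with h1 | h1
    · exact key i j h1 hj hh
    · exact (key j i h1 hi hh.symm).symm
  symm
  refine Multiset.eq_of_le_of_card_le ((Multiset.le_iff_subset hnd).2 ?_) ?_
  · intro x hx
    obtain ⟨i, -, rfl⟩ := Multiset.mem_map.1 hx
    rw [mem_roots hne, IsRoot.def, eval_map_algebraMap]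
    exact aeval_pow_card_pow _ _ _ (minpoly.aeval F ω)
  · rw [Multiset.card_map, Multiset.card_range]
    calc _ ≤ ((minpoly F ω).map (algebraMap F K)).natDegree := card_roots' _
      _ = e := hdeg

/-- a matrix with these eigenvalues -/
theorem exists_matrix (hω : IsIntegral F ω) (h : ∀ d, ω ^ Fintype.card F ^ d = ω ↔ e ∣ d) :
    ∃ A : Matrix (Fin e) (Fin e) F, A.charpoly = minpoly F ω ∧ ∀ k, ω ^ k = 1 → A ^ k = 1 := by
  obtain ⟨pb, hpb⟩ : ∃ pb : PowerBasis F (IntermediateField.adjoin F {ω}), pb.gen = IntermediateField.AdjoinSimple.gen F ω :=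
    ⟨_, IntermediateField.adjoin.powerBasis_gen hω⟩
  have h1 : minpoly F pb.gen = minpoly F ω := by
    rw [hpb]
    exact IntermediateField.minpoly_gen F ω
  have hdim : pb.dim = e := by
    rw [← pb.natDegree_minpoly, h1, natDegree_minpoly hω h]
  subst hdim
  refine ⟨Algebra.leftMulMatrix pb.basis pb.gen, ?_, ?_⟩
  · rw [charpoly_leftMulMatrix, h1]
  · intro k hk
    rw [← map_pow]
    have h2 : pb.gen ^ k = 1 := by
      rw [hpb]
      apply Subtype.ext
      simpa using hk
    rw [h2, map_one]

end roots

end Cfsg.Agent.H722.HT
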